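import Cfsg.Agent.Lib.Chev.Aut.Decomp
import Cfsg.Agent.Lib.Chev.Perfect

/-!
The possible permutations of the nodes and the field automorphisms attached to them.
-/

set_option autoImplicit false

namespace Cfsg.Agent.Lib.Chev.Aut

open Cfsg.Lie Cfsg.Agent.Lib.Chev
open scoped Matrix Pointwise

/-- Whether the fundamental roots `i`, `j` are orthogonal. -/
def orth (D : ChevalleyDatum) (i j : ℕ) : Bool := decide (D.cartan i (D.simple j) = 0)

/-- `v` may follow the images `l` of the first nodes. -/
def okNext (D : ChevalleyDatum) (l : List ℕ) (v : ℕ) : Bool :=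
  !l.contains v && (List.range l.length).all fun k =>
    orth D (l.getD k 0) v == orth D k l.length && orth D v (l.getD k 0) == orth D l.length k

/-- The injective maps of the first `k` nodes preserving orthogonality, as lists. -/
def syms (D : ChevalleyDatum) : ℕ → List (List ℕ)
  | 0 => [[]]
  | k + 1 => (syms D k).flatMap fun l =>
      ((List.range D.rank).filter fun v => okNext D l v).map fun v => l ++ [v]

/-- The images of the nodes as a list. -/
def permList {n : ℕ} (π : Equiv.Perm (Fin n)) : List ℕ := List.ofFn fun i => (π i).val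

theorem permList_getD {n : ℕ} (π : Equiv.Perm (Fin n)) (i : Fin n) : (permList π).getD i.val 0 = (π i).val := by
  rw [List.getD_eq_getElem?_getD, permList]
  simp

/-- The number of bonds is preserved. -/
def symBonds (D : ChevalleyDatum) (l : List ℕ) : Bool :=
  (List.range D.rank).all fun i => (List.range D.rank).all fun j =>
    (i == j) || decide (D.bonds (l.getD i 0) (l.getD j 0) = D.bonds i j)

/-- No node goes from short to long. -/
def expOne (D : ChevalleyDatum) (l : List ℕ) : Bool :=
  (List.range D.rank).all fun i => !(D.isLong (D.simple (l.getD i 0)) && !D.isLong (D.simple i))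

/-- The edge from `i` to `j` has Cartan integer `-1` before and after. -/
def unitEdge (D : ChevalleyDatum) (l : List ℕ) (i j : ℕ) : Bool :=
  decide (D.cartan i (D.simple j) = -1) && decide (D.cartan (l.getD i 0) (D.simple (l.getD j 0)) = -1)

/-- The nodes at distance at most `n` from the first along such edges. -/
def linked (D : ChevalleyDatum) (l : List ℕ) : ℕ → List ℕ
  | 0 => [0]
  | n + 1 => (List.range D.rank).filter fun i => (linked D l n).contains i ||
      (linked D l n).any fun k => unitEdge D l i k || unitEdge D l k i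

/-- All nodes are joined to the first one by such edges. -/
def treeOK (D : ChevalleyDatum) (l : List ℕ) : Bool :=
  (List.range D.rank).all fun i => (linked D l D.rank).contains i

/-- A symmetry for which one field automorphism serves all nodes. -/
def plainOK (D : ChevalleyDatum) (l : List ℕ) : Bool := symBonds D l && expOne D l && treeOK D l

theorem syms_G2 : syms chevG2 2 = [[0, 1], [1, 0]] ∧ plainOK chevG2 [0, 1] = true ∧ symBonds chevG2 [1, 0] = true := by
  decide +kernel
theorem syms_B2 : syms chevB2 2 = [[0, 1], [1, 0]] ∧ plainOK chevB2 [0, 1] = true ∧ symBonds chevB2 [1, 0] = true := by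
  decide +kernel
theorem syms_F4 : syms chevF4 4 = [[0, 1, 2, 3], [3, 2, 1, 0]] ∧ plainOK chevF4 [0, 1, 2, 3] = true ∧
    symBonds chevF4 [3, 2, 1, 0] = true := by
  decide +kernel
theorem syms_D4 : (syms chevD4 4).all (fun l => plainOK chevD4 l && decide (l ∈
    [[0, 1, 2, 3], [0, 1, 3, 2], [2, 1, 0, 3], [2, 1, 3, 0], [3, 1, 0, 2], [3, 1, 2, 0]])) = true := by
  decide +kernel
theorem syms_E6 : syms chevE6 6 = [[0, 1, 2, 3, 4, 5], [5, 1, 4, 3, 2, 0]] ∧
    plainOK chevE6 [0, 1, 2, 3, 4, 5] = true ∧ plainOK chevE6 [5, 1, 4, 3, 2, 0] = true := by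
  decide +kernel
theorem syms_E7 : syms chevE7 7 = [[0, 1, 2, 3, 4, 5, 6]] ∧ plainOK chevE7 [0, 1, 2, 3, 4, 5, 6] = true := by
  decide +kernel
theorem syms_E8 : syms chevE8 8 = [[0, 1, 2, 3, 4, 5, 6, 7]] ∧
    plainOK chevE8 [0, 1, 2, 3, 4, 5, 6, 7] = true := by
  decide +kernel

variable {D : ChevalleyDatum} {C : Cert} {F : Type*} [Field F]
variable (hh : Rooted D C)
variable {η : MulAut ↥(D.group F)} {π : Equiv.Perm (Fin D.rank)} {σ : Fin D.rank → F ≃+* F}
include hh

theorem permList_mem_syms (ha : Acts hh η π σ) : permList π ∈ syms D D.rank := by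
  suffices key : ∀ k ≤ D.rank, (permList π).take k ∈ syms D k by
    have := key D.rank le_rfl
    rwa [List.take_of_length_le (by simp [permList])] at this
  intro k
  induction k with
  | zero => intro _; simp [syms]
  | succ k ih =>
    intro hk
    have hk' : k < (permList π).length := by simpa [permList] using hk
    rw [List.take_succ_eq_append_getElem hk']
    simp only [syms, List.mem_flatMap, List.mem_map, List.mem_filter, List.mem_range]
    have hval : (permList π)[k] = (π ⟨k, hk⟩).val := by simp [permList]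
    refine ⟨_, ih (by omega), (permList π)[k], ⟨by rw [hval]; exact (π _).2, ?_⟩, rfl⟩
    have hlen : ((permList π).take k).length = k := by simp [permList]; omega
    simp only [okNext, Bool.and_eq_true, Bool.not_eq_true', List.all_eq_true, List.mem_range, hlen, beq_iff_eq,
      List.contains_eq_mem, decide_eq_false_iff_not]
    refine ⟨fun hmem => ?_, fun m hm => ?_⟩
    · obtain ⟨m, hm, e⟩ := List.getElem_of_mem hmem
      rw [hlen] at hm
      rw [List.getElem_take, hval] at e
      have hm' : (permList π)[m]'(by simp [permList]; omega) = (π ⟨m, by omega⟩).val := by simp [permList]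
      rw [hm'] at e
      have := congrArg Fin.val (π.injective (Fin.ext e))
      simp at this
      omega
    · have hg : ((permList π).take k).getD m 0 = (π ⟨m, by omega⟩).val := by
        rw [List.getD_eq_getElem?_getD, List.getElem?_take, if_pos hm]
        simp [permList, show m < D.rank by omega]
      have hne : (⟨m, by omega⟩ : Fin D.rank) ≠ ⟨k, hk⟩ := fun e => by simp at e; omega
      rw [hg, hval]
      exact ⟨decide_eq_decide.2 (cartan_eq_zero_iff hh ha hne),
        decide_eq_decide.2 (cartan_eq_zero_iff hh ha (Ne.symm hne))⟩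

omit hh in
theorem isDiagramSymmetry_of_ok (hok : symBonds D (permList π) = true) : D.IsDiagramSymmetry π := by
  intro i j hij
  simp only [symBonds, List.all_eq_true, List.mem_range, Bool.or_eq_true, beq_iff_eq, decide_eq_true_eq] at hok
  have := (hok i i.2 j j.2).resolve_left fun e => hij (Fin.ext e)
  simpa only [permList_getD] using this

theorem sigma_eq_of_unitEdge (ha : Acts hh η π σ) {i j : Fin D.rank}
    (e : unitEdge D (permList π) i.val j.val = true) : σ j = σ i := by
  simp only [unitEdge, Bool.and_eq_true, decide_eq_true_eq, permList_getD] at e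
  ext t
  rcases eq_or_ne t 0 with rfl | ht
  · simp
  · have h := acts_edge hh ha i j (Units.mk0 t ht)
    simp only [sp] at h
    rw [e.1, e.2, zpow_neg_one, zpow_neg_one, Units.val_inv_eq_inv_val, Units.val_inv_eq_inv_val, map_inv₀] at h
    exact inv_injective h

theorem exists_field_of_plain (ha : Acts hh η π σ) (hr : 0 < D.rank) (hok : plainOK D (permList π) = true) :
    D.IsDiagramSymmetry π ∧ ∃ σ₀ : F ≃+* F, ∀ i t, σ i t = σ₀ t ^ D.graphExp (ringChar F) i.val (π i).val := by
  simp only [plainOK, Bool.and_eq_true] at hok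
  obtain ⟨⟨h1, h2⟩, h3⟩ := hok
  refine ⟨isDiagramSymmetry_of_ok h1, σ ⟨0, hr⟩, ?_⟩
  simp only [expOne, treeOK, List.all_eq_true, List.mem_range, List.contains_iff_mem] at h2 h3
  have hlink : ∀ m, ∀ n ∈ linked D (permList π) m, ∃ hn : n < D.rank, σ ⟨n, hn⟩ = σ ⟨0, hr⟩ := by
    intro m
    induction m with
    | zero => intro n hn; simp [linked] at hn; subst hn; exact ⟨hr, rfl⟩
    | succ m ih =>
      intro n hn
      simp only [linked, List.mem_filter, List.mem_range, Bool.or_eq_true, List.any_eq_true,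
        List.contains_iff_mem] at hn
      obtain ⟨hlt, hmem | ⟨k, hk, e | e⟩⟩ := hn
      · exact ih n hmem
      · obtain ⟨hk', hσ⟩ := ih k hk
        exact ⟨hlt, by rw [← hσ]; exact (sigma_eq_of_unitEdge hh ha (i := ⟨n, hlt⟩) (j := ⟨k, hk'⟩) e).symm⟩
      · obtain ⟨hk', hσ⟩ := ih k hk
        exact ⟨hlt, by rw [← hσ]; exact sigma_eq_of_unitEdge hh ha (i := ⟨k, hk'⟩) (j := ⟨n, hlt⟩) e⟩
  have heq : ∀ n, ∀ hn : n < D.rank, σ ⟨n, hn⟩ = σ ⟨0, hr⟩ := fun n hn => (hlink _ n (h3 n hn)).2
  intro i t
  have := h2 i.val i.2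
  rw [permList_getD] at this
  rw [heq i.val i.2, ChevalleyDatum.graphExp, if_neg (by intro hb; simp_all), pow_one]

theorem sigma_eq_pow (ha : Acts hh η π σ) (b a : Fin D.rank) (k : ℕ) (h1 : D.cartan b.val (sp D a) = -1)
    (h2 : D.cartan (π b).val (sp D (π a)) = -(k : ℤ)) (t : F) (hk : k ≠ 0) : σ a t = σ b t ^ k := by
  rcases eq_or_ne t 0 with rfl | ht
  · simp [hk]
  · have h := acts_edge hh ha b a (Units.mk0 t ht)
    rw [h1, h2, zpow_neg_one, zpow_neg, zpow_natCast, Units.val_inv_eq_inv_val, Units.val_inv_eq_inv_val,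
      map_inv₀, Units.val_pow_eq_pow_val] at h
    exact inv_injective h

omit hh in
/-- When `t ↦ t²` is additive the characteristic is two. -/
theorem ringChar_of_sq {σa σb : F ≃+* F} (h : ∀ t, σa t = σb t ^ 2) : ringChar F = 2 := by
  refine CharP.ringChar_of_prime_eq_zero Nat.prime_two ?_
  have h2 := h (1 + 1)
  rw [map_add, map_add, map_one, map_one] at h2
  have : ((2 : ℕ) : F) = 0 := by push_cast; linear_combination -h2
  exact this

omit hh in
/-- When `t ↦ t³` is additive the characteristic is three, or there are two elements. -/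
theorem ringChar_of_cube {σa σb : F ≃+* F} (h : ∀ t, σa t = σb t ^ 3) :
    ringChar F = 3 ∨ (ringChar F = 2 ∧ ∀ t : F, t ^ 2 = t) := by
  by_cases h3 : ((3 : ℕ) : F) = 0
  · exact Or.inl (CharP.ringChar_of_prime_eq_zero Nat.prime_three h3)
  have key : ∀ s : F, s * (s + 1) = 0 := by
    intro s
    have h2 := h (σb.symm s + 1)
    rw [map_add, map_add, map_one, map_one, h (σb.symm s), RingEquiv.apply_symm_apply] at h2
    exact (mul_eq_zero.1 (show ((3 : ℕ) : F) * (s * (s + 1)) = 0 by push_cast; linear_combination -h2)).resolve_left h3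
  have h2 : ((2 : ℕ) : F) = 0 := by push_cast; linear_combination key 1
  refine Or.inr ⟨CharP.ringChar_of_prime_eq_zero Nat.prime_two h2, fun t => ?_⟩
  push_cast at h2
  linear_combination key t - t * h2

omit hh in
theorem exists_field_flip_G2 {η : MulAut ↥(chevG2.group F)} {π : Equiv.Perm (Fin chevG2.rank)}
    {σ : Fin chevG2.rank → F ≃+* F} (ha : Acts rooted_G2 η π σ) (e : permList π = [1, 0]) :
    chevG2.IsDiagramSymmetry π ∧
      ∃ σ₀ : F ≃+* F, ∀ i t, σ i t = σ₀ t ^ chevG2.graphExp (ringChar F) i.val (π i).val := by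
  refine ⟨isDiagramSymmetry_of_ok (e ▸ syms_G2.2.2), ?_⟩
  have e0 : (π ⟨0, by decide⟩).val = 1 := by rw [← permList_getD, e]; rfl
  have e1 : (π ⟨1, by decide⟩).val = 0 := by rw [← permList_getD, e]; rfl
  have h := sigma_eq_pow rooted_G2 ha ⟨1, by decide⟩ ⟨0, by decide⟩ 3 (by decide +kernel)
    (by simp only [sp, e0, e1]; decide +kernel)
  have hx : ∀ t, σ ⟨1, by decide⟩ t ^ 3 = σ ⟨1, by decide⟩ t ^ ringChar F := fun t => by
    rcases ringChar_of_cube (fun t => h t (by norm_num)) with hc | ⟨hc, hi⟩
    · rw [hc]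
    · rw [hc, pow_succ, hi, ← sq, hi]
  refine ⟨σ ⟨1, by decide⟩, fun i t => ?_⟩
  have hi : i.val < 2 := i.2
  interval_cases hv : i.val
  · obtain rfl : i = ⟨0, by decide⟩ := Fin.ext hv
    rw [e0, h t (by norm_num), hx,
      show chevG2.graphExp (ringChar F) 0 1 = ringChar F by
        rw [ChevalleyDatum.graphExp, if_pos (by decide +kernel)]]
  · obtain rfl : i = ⟨1, by decide⟩ := Fin.ext hv
    rw [e1, ChevalleyDatum.graphExp, if_neg (by decide +kernel), pow_one]

omit hh in
theorem exists_field_flip_B2 {η : MulAut ↥(chevB2.group F)} {π : Equiv.Perm (Fin chevB2.rank)}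
    {σ : Fin chevB2.rank → F ≃+* F} (ha : Acts rooted_B2 η π σ) (e : permList π = [1, 0]) :
    chevB2.IsDiagramSymmetry π ∧
      ∃ σ₀ : F ≃+* F, ∀ i t, σ i t = σ₀ t ^ chevB2.graphExp (ringChar F) i.val (π i).val := by
  refine ⟨isDiagramSymmetry_of_ok (e ▸ syms_B2.2.2), ?_⟩
  have e0 : (π ⟨0, by decide⟩).val = 1 := by rw [← permList_getD, e]; rfl
  have e1 : (π ⟨1, by decide⟩).val = 0 := by rw [← permList_getD, e]; rfl
  have h := sigma_eq_pow rooted_B2 ha ⟨1, by decide⟩ ⟨0, by decide⟩ 2 (by decide +kernel)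
    (by simp only [sp, e0, e1]; decide +kernel)
  have hc := ringChar_of_sq fun t => h t (by norm_num)
  refine ⟨σ ⟨1, by decide⟩, fun i t => ?_⟩
  have hi : i.val < 2 := i.2
  interval_cases hv : i.val
  · obtain rfl : i = ⟨0, by decide⟩ := Fin.ext hv
    rw [e0, h t (by norm_num), ChevalleyDatum.graphExp, if_pos (by decide +kernel), hc]
  · obtain rfl : i = ⟨1, by decide⟩ := Fin.ext hv
    rw [e1, ChevalleyDatum.graphExp, if_neg (by decide +kernel), pow_one]

omit hh in
theorem exists_field_flip_F4 {η : MulAut ↥(chevF4.group F)} {π : Equiv.Perm (Fin chevF4.rank)}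
    {σ : Fin chevF4.rank → F ≃+* F} (hF : Rooted chevF4 F4.cert) (ha : Acts hF η π σ)
    (e : permList π = [3, 2, 1, 0]) :
    chevF4.IsDiagramSymmetry π ∧
      ∃ σ₀ : F ≃+* F, ∀ i t, σ i t = σ₀ t ^ chevF4.graphExp (ringChar F) i.val (π i).val := by
  refine ⟨isDiagramSymmetry_of_ok (e ▸ syms_F4.2.2), ?_⟩
  have e0 : (π ⟨0, by decide⟩).val = 3 := by rw [← permList_getD, e]; rfl
  have e1 : (π ⟨1, by decide⟩).val = 2 := by rw [← permList_getD, e]; rfl
  have e2 : (π ⟨2, by decide⟩).val = 1 := by rw [← permList_getD, e]; rfl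
  have e3 : (π ⟨3, by decide⟩).val = 0 := by rw [← permList_getD, e]; rfl
  have h := sigma_eq_pow hF ha ⟨2, by decide⟩ ⟨1, by decide⟩ 2 (by decide +kernel)
    (by simp only [sp, e1, e2]; decide +kernel)
  have hc := ringChar_of_sq fun t => h t (by norm_num)
  have h01 : σ ⟨1, by decide⟩ = σ ⟨0, by decide⟩ :=
    sigma_eq_of_unitEdge hF ha (i := ⟨0, by decide⟩) (j := ⟨1, by decide⟩) (by rw [e]; decide +kernel)
  have h23 : σ ⟨3, by decide⟩ = σ ⟨2, by decide⟩ :=
    sigma_eq_of_unitEdge hF ha (i := ⟨2, by decide⟩) (j := ⟨3, by decide⟩) (by rw [e]; decide +kernel)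
  refine ⟨σ ⟨2, by decide⟩, fun i t => ?_⟩
  have hi : i.val < 4 := i.2
  interval_cases hv : i.val
  · obtain rfl : i = ⟨0, by decide⟩ := Fin.ext hv
    rw [e0, ← h01, h t (by norm_num), ChevalleyDatum.graphExp, if_pos (by decide +kernel), hc]
  · obtain rfl : i = ⟨1, by decide⟩ := Fin.ext hv
    rw [e1, h t (by norm_num), ChevalleyDatum.graphExp, if_pos (by decide +kernel), hc]
  · obtain rfl : i = ⟨2, by decide⟩ := Fin.ext hv
    rw [e2, ChevalleyDatum.graphExp, if_neg (by decide +kernel), pow_one]
  · obtain rfl : i = ⟨3, by decide⟩ := Fin.ext hv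
    rw [e3, h23, ChevalleyDatum.graphExp, if_neg (by decide +kernel), pow_one]

omit hh in
/-- In each of the seven types: `π` is a symmetry and one field automorphism gives all `σ i`. -/
theorem classify [Finite F] {D : ChevalleyDatum}
    (hD : D ∈ [chevG2, chevB2, chevD4, chevF4, chevE6, chevE7, chevE8]) :
    ∃ C, ∃ hh : Rooted D C, ∀ {η : MulAut ↥(D.group F)} {π : Equiv.Perm (Fin D.rank)}
      {σ : Fin D.rank → F ≃+* F}, Acts hh η π σ →
        D.IsDiagramSymmetry π ∧
          ∃ σ₀ : F ≃+* F, ∀ i t, σ i t = σ₀ t ^ D.graphExp (ringChar F) i.val (π i).val := by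
  simp only [List.mem_cons, List.not_mem_nil, or_false] at hD
  rcases hD with rfl | rfl | rfl | rfl | rfl | rfl | rfl
  · refine ⟨_, rooted_G2, fun {η π σ} ha => ?_⟩
    have hm : permList π ∈ syms chevG2 2 := permList_mem_syms rooted_G2 ha
    simp only [syms_G2.1, List.mem_cons, List.not_mem_nil, or_false] at hm
    rcases hm with e | e
    · exact exists_field_of_plain _ ha (by decide) (e ▸ syms_G2.2.1)
    · exact exists_field_flip_G2 ha e
  · refine ⟨_, rooted_B2, fun {η π σ} ha => ?_⟩
    have hm : permList π ∈ syms chevB2 2 := permList_mem_syms rooted_B2 ha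
    simp only [syms_B2.1, List.mem_cons, List.not_mem_nil, or_false] at hm
    rcases hm with e | e
    · exact exists_field_of_plain _ ha (by decide) (e ▸ syms_B2.2.1)
    · exact exists_field_flip_B2 ha e
  · refine ⟨_, (⟨checked_D4, descent_D4⟩ : Rooted chevD4 D4.cert), fun {η π σ} ha => ?_⟩
    have hm : permList π ∈ syms chevD4 4 := permList_mem_syms _ ha
    have h := List.all_eq_true.1 syms_D4 _ hm
    simp only [Bool.and_eq_true] at h
    exact exists_field_of_plain _ ha (by decide) h.1
  · refine ⟨_, (⟨checked_F4, descent_F4⟩ : Rooted chevF4 F4.cert), fun {η π σ} ha => ?_⟩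
    have hm : permList π ∈ syms chevF4 4 := permList_mem_syms _ ha
    simp only [syms_F4.1, List.mem_cons, List.not_mem_nil, or_false] at hm
    rcases hm with e | e
    · exact exists_field_of_plain _ ha (by decide) (e ▸ syms_F4.2.1)
    · exact exists_field_flip_F4 _ ha e
  · refine ⟨_, (⟨checked_E6, descent_E6⟩ : Rooted chevE6 E6.cert), fun {η π σ} ha => ?_⟩
    have hm : permList π ∈ syms chevE6 6 := permList_mem_syms _ ha
    simp only [syms_E6.1, List.mem_cons, List.not_mem_nil, or_false] at hm
    rcases hm with e | e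
    · exact exists_field_of_plain _ ha (by decide) (e ▸ syms_E6.2.1)
    · exact exists_field_of_plain _ ha (by decide) (e ▸ syms_E6.2.2)
  · refine ⟨_, (⟨checked_E7, descent_E7⟩ : Rooted chevE7 E7.cert), fun {η π σ} ha => ?_⟩
    have hm : permList π ∈ syms chevE7 7 := permList_mem_syms _ ha
    simp only [syms_E7.1, List.mem_cons, List.not_mem_nil, or_false] at hm
    exact exists_field_of_plain _ ha (by decide) (hm ▸ syms_E7.2)
  · refine ⟨_, (⟨checked_E8, descent_E8⟩ : Rooted chevE8 E8.cert), fun {η π σ} ha => ?_⟩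
    have hm : permList π ∈ syms chevE8 8 := permList_mem_syms _ ha
    simp only [syms_E8.1, List.mem_cons, List.not_mem_nil, or_false] at hm
    exact exists_field_of_plain _ ha (by decide) (hm ▸ syms_E8.2)

/-- The factor left after the field automorphism is a graph automorphism. -/
theorem isGraphAut_of_acts {σ₀ : F ≃+* F} (ha : Acts hh η π σ) (hs : D.IsDiagramSymmetry π)
    (he : ∀ i t, σ i t = σ₀ t ^ D.graphExp (ringChar F) i.val (π i).val) :
    D.IsGraphAut (η * (Twisted.fieldAut D σ₀ : MulAut ↥(D.group F))⁻¹) := by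
  refine ⟨π, hs, fun g i t => ⟨fun hg => ?_, fun hg => ?_⟩⟩
  · obtain rfl := eq_xg hh hg
    have e : (Twisted.fieldAut D σ₀ : MulAut ↥(D.group F))⁻¹ (xg hh (sp D i) t) = xg hh (sp D i) (σ₀.symm t) := by
      rw [MulAut.inv_def, MulEquiv.symm_apply_eq, fieldAut_xg, RingEquiv.apply_symm_apply]
    rw [MulAut.mul_apply, e, (ha i _).1, xg_val, he, RingEquiv.apply_symm_apply]
  · obtain rfl : g = xg hh (sm D i) t := eq_xg hh (by rw [hg, ← neg_sp hh i])
    have e : (Twisted.fieldAut D σ₀ : MulAut ↥(D.group F))⁻¹ (xg hh (sm D i) t) = xg hh (sm D i) (σ₀.symm t) := by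
      rw [MulAut.inv_def, MulEquiv.symm_apply_eq, fieldAut_xg, RingEquiv.apply_symm_apply]
    rw [MulAut.mul_apply, e, (ha i _).2, xg_val, he, RingEquiv.apply_symm_apply, ← neg_sp hh (π i)]

end Cfsg.Agent.Lib.Chev.Aut
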